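import Mathlib.CategoryTheory.Sites.Over
import Mathlib.CategoryTheory.Sites.Pullback
import Mathlib.CategoryTheory.Sites.CoverLifting
import Mathlib.CategoryTheory.Adjunction.Triple

/-!
# Localisation at a subterminal object
-/

set_option autoImplicit false
set_option linter.style.haveILetI false
set_option backward.isDefEq.respectTransparency false
set_option backward.isDefEq.respectTransparency.types false

open CategoryTheory CategoryTheory.Limits Opposite

namespace OverSubLib

universe w' w v u

variable {C : Type u} [Category.{v} C] (J : GrothendieckTopology C) (U : C)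

theorem isIso_unit (hU : ∀ V : C, Subsingleton (V ⟶ U)) {A : Type w'} [Category.{w} A]
    [∀ P : (Over U)ᵒᵖ ⥤ A, (Over.forget U).op.HasPointwiseRightKanExtension P]
    [((Over.forget U).sheafPushforwardContinuous A (J.over U) J).IsRightAdjoint] :
    IsIso ((Over.forget U).sheafAdjunctionContinuous A (J.over U) J).unit := by
  haveI : (Over.forget U).Full := ⟨fun {X Y} f => ⟨Over.homMk f (by
    haveI := hU X.left; exact Subsingleton.elim _ _), rfl⟩⟩
  let t : Adjunction.Triple _ _ _ :=
    { adj₁ := (Over.forget U).sheafAdjunctionContinuous A (J.over U) J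
      adj₂ := (Over.forget U).sheafAdjunctionCocontinuous A (J.over U) J }
  refine t.isIso_unit_iff_isIso_counit.2 ?_
  haveI : ∀ G, IsIso (t.adj₂.counit.app G) := fun G => by
    haveI : IsIso ((sheafToPresheaf _ _).map (t.adj₂.counit.app G)) := by
      show IsIso (t.adj₂.counit.app G).hom
      rw [show (t.adj₂.counit.app G).hom = _ from Functor.sheafAdjunctionCocontinuous_counit_app_hom _ _ _ _ G,
        Functor.ranAdjunction_counit]
      haveI : ∀ W, IsIso (((Over.forget U).op.ranCounit.app G.obj).app W) := fun W => inferInstance
      exact NatIso.isIso_of_isIso_app _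
    exact isIso_of_reflects_iso _ (sheafToPresheaf (J.over U) A)
  exact NatIso.isIso_of_isIso_app _

end OverSubLib
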